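import Mathlib
import Groth.Agent.H57.RelAssGen.Defs

/-!
# Definitions for S4832 (torsion-free fibres; helper57)

* `GenAt I q` : locally at the prime `q`, `q` equals `I` (for `I = fibI A q`: the local ring of the
  fibre at `q` is a field, i.e. `q` is a generic point of its fibre with reduced local ring).
* `GenPt f x` : the scheme-level version: `𝔪_x = 𝔪_{f x} O_{X,x}`.
-/

set_option autoImplicit false
universe u

open AlgebraicGeometry

namespace Groth.Agent.H57.TorFree

/-- `q = I` locally at `q`. -/
def GenAt {B : Type*} [CommRing B] (I q : Ideal B) : Prop :=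
  ∀ b ∈ q, ∃ s : B, s ∉ q ∧ s * b ∈ I

/-- The local ring of the fibre of `f` at `x` is a field. -/
def GenPt {X S : Scheme.{u}} (f : X ⟶ S) (x : X) : Prop :=
  IsLocalRing.maximalIdeal (X.presheaf.stalk x) ≤
    Ideal.map (f.stalkMap x).hom (IsLocalRing.maximalIdeal (S.presheaf.stalk (f x)))

end Groth.Agent.H57.TorFree
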