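import Mathlib
import Groth.Agent.H26.RA_G
import Groth.Agent.H57.RelAssSU.AlgMain

/-!
# (GSU) general base form of (SU) + finiteness (helper57; insurance copy)
-/

set_option autoImplicit false
set_option linter.style.haveILetI false
universe u

open Groth.Agent.H57.RelAssGen Groth.Agent.H26.RA_G

namespace Groth.Agent.H57.TorFree.GSU

namespace QD

variable {A₀ B M : Type u} [CommRing A₀] [CommRing B] [Algebra A₀ B] [AddCommGroup M] [Module B M]
variable {A B' M' : Type u} [CommRing A] [CommRing B'] [Algebra A B']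
  [AddCommGroup M'] [Module B' M'] {p₀ : Ideal A₀} (D : QData B M A B' M' p₀)

include D

theorem comap_map_eq_map_comap (q : Ideal B) (hq : RingHom.ker D.π ≤ q) :
    (q.map D.π).comap (algebraMap A B') = (q.comap (algebraMap A₀ B)).map D.ρ := by
  ext x
  obtain ⟨a, rfl⟩ := D.hρ x
  rw [Ideal.mem_comap, D.hsq, mem_map_iff D.π D.hπ q hq,
    mem_map_iff D.ρ D.hρ _ (by rw [D.hρk]; exact D.le_comap_of_ker_le q hq), Ideal.mem_comap]

theorem comap_bot_of_comap_eq (q₀ : Ideal B) (hq₀ : q₀.comap (algebraMap A₀ B) = p₀) :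
    (q₀.map D.π).comap (algebraMap A B') = ⊥ := by
  have hk0 : RingHom.ker D.π ≤ q₀ := D.ker_le_of_le_comap q₀ hq₀.ge
  rw [comap_map_eq_map_comap D q₀ hk0, hq₀]
  exact (Ideal.map_eq_bot_iff_le_ker D.ρ).mpr D.hρk.ge

theorem gen_su_aux
    (hFIN : {q₀' : Ideal B' | q₀'.IsPrime ∧ q₀'.comap (algebraMap A B') = ⊥ ∧
      SocAt (fibI A q₀') q₀' M'}.Finite)
    (hSU : ∃ a : A, a ≠ 0 ∧ ∀ q : Ideal B', q.IsPrime → algebraMap A B' a ∉ q →
      SocAt (fibI A q) q M' →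
      ∃ q₀ : Ideal B', q₀.IsPrime ∧ q₀.comap (algebraMap A B') = ⊥ ∧ SocAt (fibI A q₀) q₀ M' ∧
        q₀ ≤ q ∧ ∀ r : Ideal B', r.IsPrime → q₀ ≤ r → r ≤ q →
          r.comap (algebraMap A B') = q.comap (algebraMap A B') → r = q) :
    {q₀ : Ideal B | q₀.IsPrime ∧ q₀.comap (algebraMap A₀ B) = p₀ ∧
      SocAt (fibI A₀ q₀) q₀ M}.Finite ∧
    ∃ a : A₀, a ∉ p₀ ∧ ∀ q : Ideal B, q.IsPrime → p₀ ≤ q.comap (algebraMap A₀ B) →
      algebraMap A₀ B a ∉ q → SocAt (fibI A₀ q) q M →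
      ∃ q₀ : Ideal B, q₀.IsPrime ∧ q₀.comap (algebraMap A₀ B) = p₀ ∧ SocAt (fibI A₀ q₀) q₀ M ∧
        q₀ ≤ q ∧ ∀ q' : Ideal B, q'.IsPrime → q₀ ≤ q' → q' ≤ q →
          q'.comap (algebraMap A₀ B) = q.comap (algebraMap A₀ B) → q' = q := by
  constructor
  · refine (hFIN.image (Ideal.comap D.π)).subset ?_
    rintro q₀ ⟨hpr, hc, hs⟩
    haveI := hpr
    have hk0 : RingHom.ker D.π ≤ q₀ := D.ker_le_of_le_comap q₀ hc.ge
    refine ⟨q₀.map D.π, ⟨Ideal.map_isPrime_of_surjective D.hπ hk0,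
      comap_bot_of_comap_eq D q₀ hc, (D.socAt_iff q₀ hk0).mpr hs⟩, ?_⟩
    exact comap_map_eq D.π D.hπ q₀ hk0
  · obtain ⟨a', ha', H⟩ := hSU
    obtain ⟨a, rfl⟩ := D.hρ a'
    refine ⟨a, ?_, ?_⟩
    · intro hmem
      rw [← D.hρk, RingHom.mem_ker] at hmem
      exact ha' hmem
    · intro q hq hle haq hs
      haveI := hq
      have hkq : RingHom.ker D.π ≤ q := D.ker_le_of_le_comap q hle
      have hq'p : (q.map D.π).IsPrime := Ideal.map_isPrime_of_surjective D.hπ hkq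
      obtain ⟨q₀', hq₀'p, hq₀'bot, hq₀'s, hq₀'q, hmin⟩ := H _ hq'p
        (by rw [D.hsq, mem_map_iff D.π D.hπ q hkq]; exact haq)
        ((D.socAt_iff q hkq).mpr hs)
      haveI := hq₀'p
      have hkq₀ : RingHom.ker D.π ≤ q₀'.comap D.π := ker_le_comap D.π q₀'
      have hmapcomap : (q₀'.comap D.π).map D.π = q₀' := Ideal.map_comap_of_surjective D.π D.hπ q₀'
      refine ⟨q₀'.comap D.π, Ideal.comap_isPrime D.π q₀', ?_, ?_, ?_, ?_⟩
      · rw [D.comap_comap_eq, hq₀'bot]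
        exact (RingHom.ker_eq_comap_bot D.ρ).symm.trans D.hρk
      · rw [← D.socAt_iff _ hkq₀, hmapcomap]
        exact hq₀'s
      · rw [← comap_map_eq D.π D.hπ q hkq]
        exact Ideal.comap_mono hq₀'q
      · intro r hr hq₀r hrq hc
        haveI := hr
        have hkr : RingHom.ker D.π ≤ r := hkq₀.trans hq₀r
        have hr'p : (r.map D.π).IsPrime := Ideal.map_isPrime_of_surjective D.hπ hkr
        have h1 : q₀' ≤ r.map D.π := by
          rw [← hmapcomap]; exact Ideal.map_mono hq₀r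
        have h2 : r.map D.π ≤ q.map D.π := Ideal.map_mono hrq
        have h3 : (r.map D.π).comap (algebraMap A B') = (q.map D.π).comap (algebraMap A B') := by
          rw [comap_map_eq_map_comap D r hkr, comap_map_eq_map_comap D q hkq, hc]
        have h4 := hmin _ hr'p h1 h2 h3
        rw [← comap_map_eq D.π D.hπ r hkr, h4, comap_map_eq D.π D.hπ q hkq]

end QD

section General

variable {A₀ B M : Type u} [CommRing A₀] [IsNoetherianRing A₀] [CommRing B] [Algebra A₀ B]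
  [Algebra.FiniteType A₀ B] [AddCommGroup M] [Module B M] [Module A₀ M] [IsScalarTower A₀ B M]
  [Module.Finite B M]

theorem gen_generization (p₀ : Ideal A₀) [p₀.IsPrime] :
    {q₀ : Ideal B | q₀.IsPrime ∧ q₀.comap (algebraMap A₀ B) = p₀ ∧
      SocAt (fibI A₀ q₀) q₀ M}.Finite ∧
    ∃ a : A₀, a ∉ p₀ ∧ ∀ q : Ideal B, q.IsPrime → p₀ ≤ q.comap (algebraMap A₀ B) →
      algebraMap A₀ B a ∉ q → SocAt (fibI A₀ q) q M →
      ∃ q₀ : Ideal B, q₀.IsPrime ∧ q₀.comap (algebraMap A₀ B) = p₀ ∧ SocAt (fibI A₀ q₀) q₀ M ∧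
        q₀ ≤ q ∧ ∀ q' : Ideal B, q'.IsPrime → q₀ ≤ q' → q' ≤ q →
          q'.comap (algebraMap A₀ B) = q.comap (algebraMap A₀ B) → q' = q := by
  letI : Module (A₀ ⧸ p₀) (M ⧸ (p₀.map (algebraMap A₀ B) • (⊤ : Submodule B M))) :=
    Module.compHom _ (algebraMap (A₀ ⧸ p₀) (B ⧸ p₀.map (algebraMap A₀ B)))
  haveI : IsScalarTower (A₀ ⧸ p₀) (B ⧸ p₀.map (algebraMap A₀ B))
      (M ⧸ (p₀.map (algebraMap A₀ B) • (⊤ : Submodule B M))) := ⟨fun a b m => by
    show (a • b) • m = (algebraMap (A₀ ⧸ p₀) (B ⧸ p₀.map (algebraMap A₀ B)) a) • (b • m)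
    rw [Algebra.smul_def, mul_smul]⟩
  haveI : Algebra.FiniteType (A₀ ⧸ p₀) (B ⧸ p₀.map (algebraMap A₀ B)) :=
    Algebra.FiniteType.of_restrictScalars_finiteType A₀ _ _
  haveI : Module.Finite (B ⧸ p₀.map (algebraMap A₀ B))
      (M ⧸ (p₀.map (algebraMap A₀ B) • (⊤ : Submodule B M))) :=
    Module.Finite.of_restrictScalars_finite B _ _
  haveI : IsNoetherianRing (B ⧸ p₀.map (algebraMap A₀ B)) :=
    Algebra.FiniteType.isNoetherianRing (A₀ ⧸ p₀) _
  refine QD.gen_su_aux (qdata M p₀) ?_ ?_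
  · refine (associatedPrimes.finite (B ⧸ p₀.map (algebraMap A₀ B))
      (M ⧸ (p₀.map (algebraMap A₀ B) • (⊤ : Submodule B M)))).subset ?_
    rintro q₀ ⟨hp, hb, hs⟩
    haveI := hp
    apply Groth.Agent.H72.SU_FIN.mem_associatedPrimes_of_socAt_bot q₀
    have h0 : fibI (A₀ ⧸ p₀) q₀ = ⊥ := by unfold fibI; rw [hb, Ideal.map_bot]
    rwa [h0] at hs
  · exact Groth.Agent.H57.RelAssSU.exists_generization_of_socAt

end General

end Groth.Agent.H57.TorFree.GSU
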