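import Mathlib
import Groth.Agent.H57.TorFree.Defs
import Groth.Agent.H57.RelAssGen.RowGeneric
import Groth.Agent.H57.RelAssSU.Bridge
import Groth.Agent.H26.RA_G1
import Groth.Agent.H26.RA_G2
import Groth.Agent.H86.TF_TOP
import Groth.Agent.H97.TF_MB
import Groth.Agent.H75.TF_CH
import Groth.Agent.H98.TF_TFB
import Groth.Agent.H15.TF_ALG
import Groth.Agent.H57.TorFree.GSU

/-!
# Glue file for S4832: the squad pieces under one namespace

(TOP) helper86, (TFB) helper98, (MB) helper97, (CH)+(CHD) helper75, (ALG-i)+(ALG-ii) helper15,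
(GSU) helper57.
-/

set_option autoImplicit false
set_option linter.style.haveILetI false
universe u

open AlgebraicGeometry CategoryTheory Limits TopologicalSpace IsLocalRing
open Groth.Agent.H57.RelAssGen

namespace Groth.Agent.H57.TorFree

/-! ### scheme-level pieces -/

/-- (TOP) Noetherian criterion of local constructibility via generic points. -/
theorem isLocallyConstructible_of_forall_generic {S : Scheme.{u}} [IsLocallyNoetherian S]
    (E : Set S)
    (h1 : ∀ t ∈ E, ∃ U : S.Opens, t ∈ U ∧ ∀ s ∈ U, t ⤳ s → s ∈ E)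
    (h2 : ∀ t ∉ E, ∃ U : S.Opens, t ∈ U ∧ ∀ s ∈ U, t ⤳ s → s ∉ E) :
    Topology.IsLocallyConstructible E :=
  Groth.Agent.H86.TF_TOP.isLocallyConstructible_of_forall_generic E h1 h2

/-- (TFB) on a locally Noetherian scheme with integral local rings, a coherent module is
torsion-free iff the local rings at its associated points are fields. -/
theorem torsionFree_iff_ass {Z : Scheme.{u}} [IsLocallyNoetherian Z] (G : Z.Modules)
    (hG : Coh.IsCoh G) (hdom : ∀ x : Z, IsDomain (Z.presheaf.stalk x)) :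
    (∀ x : Z, Submodule.torsion (Z.presheaf.stalk x) (G.presheaf.stalk x) = ⊥) ↔
      ∀ z ∈ AssSch.Ass G, IsLocalRing.maximalIdeal (Z.presheaf.stalk z) = ⊥ :=
  Groth.Agent.H98.TF_TFB.torsionFree_iff_ass G hG hdom

variable {X S : Scheme.{u}}

/-- (MB1) the local ring of the fibre at `z` is a field iff `GenPt`. -/
theorem maximalIdeal_fiber_stalk_eq_bot_iff (f : X ⟶ S) (s : S) (z : ↥(f.fiber s)) :
    IsLocalRing.maximalIdeal ((f.fiber s).presheaf.stalk z) = ⊥ ↔ GenPt f (f.fiberι s z) :=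
  Groth.Agent.H97.TF_MB.maximalIdeal_fiber_stalk_eq_bot_iff f s z

/-- (MB3a) if the local ring of the fibre at `z` is a domain, `𝔪_s O_{X,x}` is prime. -/
theorem isPrime_map_stalkMap_of_isDomain (f : X ⟶ S) (s : S) (z : ↥(f.fiber s))
    [IsDomain ((f.fiber s).presheaf.stalk z)] :
    (Ideal.map (f.stalkMap (f.fiberι s z)).hom
      (IsLocalRing.maximalIdeal (S.presheaf.stalk (f (f.fiberι s z))))).IsPrime :=
  Groth.Agent.H97.TF_MB.isPrime_map_stalkMap_of_isDomain f s z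

/-- (CH) chart form of `GenPt`. -/
theorem genPt_iff_genAt (f : X ⟶ S) {V : S.Opens} (hV : IsAffineOpen V) {W : X.Opens}
    (hW : IsAffineOpen W) (e : W ≤ f ⁻¹ᵁ V) (x : X) (hxW : x ∈ W) :
    letI : Algebra Γ(S, V) Γ(X, W) := (f.appLE V W e).hom.toAlgebra
    GenPt f x ↔ GenAt (fibI Γ(S, V) (hW.primeIdealOf ⟨x, hxW⟩).asIdeal)
      (hW.primeIdealOf ⟨x, hxW⟩).asIdeal :=
  Groth.Agent.H75.TF_CH.genPt_iff_genAt f hV hW e x hxW

/-- (CHD) chart form of "the fibre local ring is a domain": an associated point of the fibre of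
the structure sheaf is a generic point. -/
theorem genAt_of_socAt_of_isPrime (f : X ⟶ S) {V : S.Opens} (hV : IsAffineOpen V) {W : X.Opens}
    (hW : IsAffineOpen W) (e : W ≤ f ⁻¹ᵁ V) (x : X) (hxW : x ∈ W)
    (hprime : (Ideal.map (f.stalkMap x).hom
      (IsLocalRing.maximalIdeal (S.presheaf.stalk (f x)))).IsPrime) :
    letI : Algebra Γ(S, V) Γ(X, W) := (f.appLE V W e).hom.toAlgebra
    SocAt (fibI Γ(S, V) (hW.primeIdealOf ⟨x, hxW⟩).asIdeal)
        (hW.primeIdealOf ⟨x, hxW⟩).asIdeal Γ(X, W) →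
      GenAt (fibI Γ(S, V) (hW.primeIdealOf ⟨x, hxW⟩).asIdeal)
        (hW.primeIdealOf ⟨x, hxW⟩).asIdeal :=
  Groth.Agent.H75.TF_CH.genAt_of_socAt_of_isPrime f hV hW e x hxW hprime

/-! ### algebra pieces -/

section General

variable {A₀ B M : Type u} [CommRing A₀] [IsNoetherianRing A₀] [CommRing B] [Algebra A₀ B]
  [Algebra.FiniteType A₀ B] [AddCommGroup M] [Module B M] [Module A₀ M] [IsScalarTower A₀ B M]
  [Module.Finite B M]

/-- (GSU) general base form of (SU) + finiteness of the set of associated points of the fibre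
over `p₀`. -/
theorem gen_generization (p₀ : Ideal A₀) [p₀.IsPrime] :
    {q₀ : Ideal B | q₀.IsPrime ∧ q₀.comap (algebraMap A₀ B) = p₀ ∧
      SocAt (fibI A₀ q₀) q₀ M}.Finite ∧
    ∃ a : A₀, a ∉ p₀ ∧ ∀ q : Ideal B, q.IsPrime → p₀ ≤ q.comap (algebraMap A₀ B) →
      algebraMap A₀ B a ∉ q → SocAt (fibI A₀ q) q M →
      ∃ q₀ : Ideal B, q₀.IsPrime ∧ q₀.comap (algebraMap A₀ B) = p₀ ∧ SocAt (fibI A₀ q₀) q₀ M ∧
        q₀ ≤ q ∧ ∀ q' : Ideal B, q'.IsPrime → q₀ ≤ q' → q' ≤ q →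
          q'.comap (algebraMap A₀ B) = q.comap (algebraMap A₀ B) → q' = q :=
  Groth.Agent.H57.TorFree.GSU.gen_generization p₀

/-- (ALG-i) if all associated points of the fibre of `M` over `p₀` are generic points (with field
local ring) of the fibre, the same holds over `D(a) ∩ V(p₀)`. -/
theorem alg_tf_pos (p₀ : Ideal A₀) [p₀.IsPrime]
    (hD : ∀ q : Ideal B, q.IsPrime → p₀ ≤ q.comap (algebraMap A₀ B) →
      SocAt (fibI A₀ q) q B → GenAt (fibI A₀ q) q)
    (h : ∀ q₀ : Ideal B, q₀.IsPrime → q₀.comap (algebraMap A₀ B) = p₀ →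
      SocAt (fibI A₀ q₀) q₀ M → GenAt (fibI A₀ q₀) q₀) :
    ∃ a : A₀, a ∉ p₀ ∧ ∀ q : Ideal B, q.IsPrime → p₀ ≤ q.comap (algebraMap A₀ B) →
      algebraMap A₀ B a ∉ q → SocAt (fibI A₀ q) q M → GenAt (fibI A₀ q) q :=
  Groth.Agent.H15.TF_ALG.alg_tf_pos_of p₀ (gen_generization p₀) hD h

omit [IsNoetherianRing A₀] in
/-- (ALG-ii) if some associated point of the fibre of `M` over `p₀` is not a generic point of the
fibre, the same holds over every point of `D(a) ∩ V(p₀)`. -/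
theorem alg_tf_neg (p₀ : Ideal A₀) [p₀.IsPrime]
    (hD : ∀ q : Ideal B, q.IsPrime → p₀ ≤ q.comap (algebraMap A₀ B) →
      SocAt (fibI A₀ q) q B → GenAt (fibI A₀ q) q)
    (q₀ : Ideal B) [q₀.IsPrime] (hq₀ : q₀.comap (algebraMap A₀ B) = p₀)
    (h₀ : SocAt (fibI A₀ q₀) q₀ M) (hn : ¬ GenAt (fibI A₀ q₀) q₀) :
    ∃ a : A₀, a ∉ p₀ ∧ ∀ p : Ideal A₀, p.IsPrime → p₀ ≤ p → a ∉ p →
      ∃ q : Ideal B, q.IsPrime ∧ q.comap (algebraMap A₀ B) = p ∧ SocAt (fibI A₀ q) q M ∧
        ¬ GenAt (fibI A₀ q) q :=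
  Groth.Agent.H15.TF_ALG.alg_tf_neg p₀ hD q₀ hq₀ h₀ hn

end General

end Groth.Agent.H57.TorFree
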