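import Mathlib
import Groth.Agent.H57.TorFree.Stmts
import Groth.Agent.H8.PullbackFinType

/-!
# Assembly for S4832 (helper57)
-/

set_option autoImplicit false
set_option linter.style.haveILetI false
universe u

open AlgebraicGeometry CategoryTheory Limits TopologicalSpace IsLocalRing
open Groth.Agent.H57.RelAssGen Groth.Agent.H57.RelAssSU

namespace Groth.Agent.H57.TorFree

variable {X S : Scheme.{u}}

/-- Per-fibre characterization of torsion-freeness through the relative assassin. -/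
theorem torsionFree_fibre_iff (f : X ⟶ S) [LocallyOfFiniteType f] (F : X.Modules)
    (hF : Coh.IsCoh F) (s : S)
    (hdom : ∀ z : ↥(f.fiber s), IsDomain ((f.fiber s).presheaf.stalk z)) :
    (∀ z : ↥(f.fiber s), Submodule.torsion ((f.fiber s).presheaf.stalk z)
        (((Scheme.Modules.pullback (f.fiberι s)).obj F).presheaf.stalk z) = ⊥) ↔
      ∀ x : X, f x = s → x ∈ MoreMor.relAss f F → GenPt f x := by
  haveI := Groth.Agent.H57.RelAssBC.isLocallyNoetherian_fiber f s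
  haveI : F.IsQuasicoherent := hF.1
  haveI : SheafOfModules.IsFiniteType (R := X.ringCatSheaf) F := hF.2
  have hcoh : Coh.IsCoh ((Scheme.Modules.pullback (f.fiberι s)).obj F) :=
    ⟨Groth.Agent.H8.isQuasicoherent_pullback _ F, Groth.Agent.H8.isFiniteType_pullback _ F⟩
  rw [torsionFree_iff_ass _ hcoh hdom]
  constructor
  · intro h x hx hxR
    obtain ⟨z, rfl⟩ := exists_fiberι_eq f s x hx
    exact (maximalIdeal_fiber_stalk_eq_bot_iff f s z).mp
      (h z ((mem_ass_fiber_iff f F s z).mpr hxR))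
  · intro h z hz
    exact (maximalIdeal_fiber_stalk_eq_bot_iff f s z).mpr
      (h _ (fiberι_apply_fiber f s z) ((mem_ass_fiber_iff f F s z).mp hz))

theorem isPrime_of_hint (f : X ⟶ S)
    (hint : ∀ (s : S) (x : ↥(f.fiber s)), IsDomain ((f.fiber s).presheaf.stalk x)) (x : X) :
    (Ideal.map (f.stalkMap x).hom
      (IsLocalRing.maximalIdeal (S.presheaf.stalk (f x)))).IsPrime := by
  obtain ⟨z, hz⟩ := exists_fiberι_eq f (f x) x rfl
  haveI := hint (f x) z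
  have := isPrime_map_stalkMap_of_isDomain f (f x) z
  rwa [hz] at this

section Chart

variable (f : X ⟶ S) [LocallyOfFiniteType f] (F : X.Modules) (hF : Coh.IsCoh F)
  {V₀ : S.Opens} (hV₀ : IsAffineOpen V₀) {W : X.Opens} (hW : IsAffineOpen W) (e : W ≤ f ⁻¹ᵁ V₀)
  (hprime : ∀ x : X, (Ideal.map (f.stalkMap x).hom
      (IsLocalRing.maximalIdeal (S.presheaf.stalk (f x)))).IsPrime)

include hF hprime hV₀ hW e in
theorem chart_pos [IsNoetherianRing Γ(S, V₀)] (t : S) (htV₀ : t ∈ V₀)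
    (ht : ∀ x : X, f x = t → x ∈ MoreMor.relAss f F → GenPt f x) :
    ∃ a : Γ(S, V₀), a ∉ (hV₀.primeIdealOf ⟨t, htV₀⟩).asIdeal ∧
      ∀ x : X, x ∈ W → t ⤳ f x → f x ∈ S.basicOpen a → x ∈ MoreMor.relAss f F → GenPt f x := by
  haveI : F.IsQuasicoherent := hF.1
  letI : Algebra Γ(S, V₀) Γ(X, W) := (f.appLE V₀ W e).hom.toAlgebra
  haveI : Algebra.FiniteType Γ(S, V₀) Γ(X, W) := f.finiteType_appLE hV₀ hW e
  letI : Module Γ(S, V₀) Γ(F, W) := Module.compHom _ (f.appLE V₀ W e).hom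
  haveI : IsScalarTower Γ(S, V₀) Γ(X, W) Γ(F, W) :=
    IsScalarTower.of_algebraMap_smul fun r m => rfl
  haveI : Module.Finite Γ(X, W) Γ(F, W) := Groth.Agent.H8.finite_sections_of_isCoh F hF hW
  have hcomap : ∀ (x : X) (hxW : x ∈ W),
      (hW.primeIdealOf ⟨x, hxW⟩).asIdeal.comap (algebraMap Γ(S, V₀) Γ(X, W)) =
        (hV₀.primeIdealOf ⟨f x, e hxW⟩).asIdeal :=
    fun x hxW => comap_primeIdealOf_asIdeal f hV₀ hW e x hxW
  obtain ⟨a, ha, hconc⟩ := alg_tf_pos (A₀ := Γ(S, V₀)) (B := Γ(X, W)) (M := Γ(F, W))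
    (hV₀.primeIdealOf ⟨t, htV₀⟩).asIdeal
    (by
      intro q hqprime _ hsoc
      obtain ⟨x, hxW, hxq⟩ := exists_point_of_prime hW ⟨q, hqprime⟩
      have hqe : q = (hW.primeIdealOf ⟨x, hxW⟩).asIdeal := by rw [hxq]
      subst hqe
      exact genAt_of_socAt_of_isPrime f hV₀ hW e x hxW (hprime x) hsoc)
    (by
      intro q hqprime hqcomap hsoc
      obtain ⟨x, hxW, hxq⟩ := exists_point_of_prime hW ⟨q, hqprime⟩
      have hqe : q = (hW.primeIdealOf ⟨x, hxW⟩).asIdeal := by rw [hxq]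
      subst hqe
      have hfx : f x = t :=
        primeIdealOf_injective hV₀ (e hxW) htV₀
          (PrimeSpectrum.ext ((hcomap x hxW).symm.trans hqcomap))
      have hx : x ∈ MoreMor.relAss f F := (mem_relAss_iff_socAt f F hV₀ hW e x hxW).mpr hsoc
      exact (genPt_iff_genAt f hV₀ hW e x hxW).mp (ht x hfx hx))
  refine ⟨a, ha, fun x hxW hsp hfx hx => ?_⟩
  apply (genPt_iff_genAt f hV₀ hW e x hxW).mpr
  refine hconc _ (hW.primeIdealOf ⟨x, hxW⟩).isPrime ?_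
    (algebraMap_notMem_of_mem_basicOpen f hW e x hxW a hfx)
    ((mem_relAss_iff_socAt f F hV₀ hW e x hxW).mp hx)
  rw [hcomap x hxW]
  exact (primeIdealOf_le_iff_specializes hV₀ (e hxW) htV₀).mpr hsp

include hF hprime hV₀ hW e in
theorem chart_neg (x₀ : X) (hx₀W : x₀ ∈ W) (hx₀ : x₀ ∈ MoreMor.relAss f F)
    (hn : ¬ GenPt f x₀) :
    ∃ a : Γ(S, V₀), f x₀ ∈ S.basicOpen a ∧
      ∀ s : S, s ∈ S.basicOpen a → f x₀ ⤳ s →
        ∃ x : X, f x = s ∧ x ∈ MoreMor.relAss f F ∧ ¬ GenPt f x := by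
  haveI : F.IsQuasicoherent := hF.1
  letI : Algebra Γ(S, V₀) Γ(X, W) := (f.appLE V₀ W e).hom.toAlgebra
  haveI : Algebra.FiniteType Γ(S, V₀) Γ(X, W) := f.finiteType_appLE hV₀ hW e
  letI : Module Γ(S, V₀) Γ(F, W) := Module.compHom _ (f.appLE V₀ W e).hom
  haveI : IsScalarTower Γ(S, V₀) Γ(X, W) Γ(F, W) :=
    IsScalarTower.of_algebraMap_smul fun r m => rfl
  haveI : Module.Finite Γ(X, W) Γ(F, W) := Groth.Agent.H8.finite_sections_of_isCoh F hF hW
  have hcomap : ∀ (x : X) (hxW : x ∈ W),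
      (hW.primeIdealOf ⟨x, hxW⟩).asIdeal.comap (algebraMap Γ(S, V₀) Γ(X, W)) =
        (hV₀.primeIdealOf ⟨f x, e hxW⟩).asIdeal :=
    fun x hxW => comap_primeIdealOf_asIdeal f hV₀ hW e x hxW
  obtain ⟨a, ha, hconc⟩ := alg_tf_neg (A₀ := Γ(S, V₀)) (B := Γ(X, W)) (M := Γ(F, W))
    (hV₀.primeIdealOf ⟨f x₀, e hx₀W⟩).asIdeal
    (by
      intro q hqprime _ hsoc
      obtain ⟨x, hxW, hxq⟩ := exists_point_of_prime hW ⟨q, hqprime⟩
      have hqe : q = (hW.primeIdealOf ⟨x, hxW⟩).asIdeal := by rw [hxq]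
      subst hqe
      exact genAt_of_socAt_of_isPrime f hV₀ hW e x hxW (hprime x) hsoc)
    (hW.primeIdealOf ⟨x₀, hx₀W⟩).asIdeal (hcomap x₀ hx₀W)
    ((mem_relAss_iff_socAt f F hV₀ hW e x₀ hx₀W).mp hx₀)
    (fun h => hn ((genPt_iff_genAt f hV₀ hW e x₀ hx₀W).mpr h))
  refine ⟨a, (Groth.Agent.H8.mem_basicOpen_iff_notMem_primeIdealOf hV₀ (f x₀) (e hx₀W) a).mpr ha,
    fun s hsa hsp => ?_⟩
  have hsV₀ : s ∈ V₀ := S.basicOpen_le a hsa
  obtain ⟨q, hqprime, hqcomap, hsoc, hnq⟩ := hconc (hV₀.primeIdealOf ⟨s, hsV₀⟩).asIdeal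
    (hV₀.primeIdealOf ⟨s, hsV₀⟩).isPrime
    ((primeIdealOf_le_iff_specializes hV₀ hsV₀ (e hx₀W)).mpr hsp)
    ((Groth.Agent.H8.mem_basicOpen_iff_notMem_primeIdealOf hV₀ s hsV₀ a).mp hsa)
  obtain ⟨x, hxW, hxq⟩ := exists_point_of_prime hW ⟨q, hqprime⟩
  have hqe : q = (hW.primeIdealOf ⟨x, hxW⟩).asIdeal := by rw [hxq]
  subst hqe
  refine ⟨x, ?_, (mem_relAss_iff_socAt f F hV₀ hW e x hxW).mpr hsoc,
    fun h => hnq ((genPt_iff_genAt f hV₀ hW e x hxW).mp h)⟩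
  apply primeIdealOf_injective hV₀ (e hxW) hsV₀
  apply PrimeSpectrum.ext
  rw [← hcomap x hxW]
  exact hqcomap

end Chart

/-- S4832, in terms of `Coh.IsCoh`. -/
theorem main (f : X ⟶ S) [IsLocallyNoetherian S] [LocallyOfFiniteType f] [QuasiCompact f]
    (F : X.Modules) (hF : Coh.IsCoh F)
    (hint : ∀ (s : S) (x : ↥(f.fiber s)), IsDomain ((f.fiber s).presheaf.stalk x)) :
    Topology.IsLocallyConstructible {s : S | ∀ x : ↥(f.fiber s),
      Submodule.torsion ((f.fiber s).presheaf.stalk x)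
        (((Scheme.Modules.pullback (f.fiberι s)).obj F).presheaf.stalk x) = ⊥} := by
  classical
  have hprime := isPrime_of_hint f hint
  have hE : ∀ s : S, (s ∈ {s : S | ∀ x : ↥(f.fiber s),
      Submodule.torsion ((f.fiber s).presheaf.stalk x)
        (((Scheme.Modules.pullback (f.fiberι s)).obj F).presheaf.stalk x) = ⊥}) ↔
      ∀ x : X, f x = s → x ∈ MoreMor.relAss f F → GenPt f x :=
    fun s => torsionFree_fibre_iff f F hF s (hint s)
  apply isLocallyConstructible_of_forall_generic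
  · intro t ht
    rw [hE] at ht
    obtain ⟨_, ⟨V₀, hV₀, rfl⟩, htV₀, -⟩ := S.isBasis_affineOpens.exists_subset_of_mem_open
      (Set.mem_univ t) isOpen_univ
    replace hV₀ : IsAffineOpen V₀ := hV₀
    haveI : IsNoetherianRing Γ(S, V₀) := IsLocallyNoetherian.component_noetherian ⟨V₀, hV₀⟩
    have hcpt : IsCompact ((f ⁻¹ᵁ V₀ : X.Opens) : Set X) := f.isCompact_preimage hV₀.isCompact
    obtain ⟨c, hcfin, hc⟩ := isCompact_iff_finite_and_eq_biUnion_affineOpens.mp hcpt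
    have hle : ∀ W ∈ c, (W : X.Opens) ≤ f ⁻¹ᵁ V₀ := by
      intro W hW
      rw [hc]
      exact le_iSup₂ (f := fun (i : X.affineOpens) (_ : i ∈ c) => (i : X.Opens)) W hW
    have key : ∀ T : Finset X.affineOpens, (∀ W ∈ T, (W : X.Opens) ≤ f ⁻¹ᵁ V₀) →
        ∃ a : Γ(S, V₀), a ∉ (hV₀.primeIdealOf ⟨t, htV₀⟩).asIdeal ∧
          ∀ W ∈ T, ∀ x : X, x ∈ (W : X.Opens) → t ⤳ f x → f x ∈ S.basicOpen a →
            x ∈ MoreMor.relAss f F → GenPt f x := by
      intro T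
      induction T using Finset.induction_on with
      | empty =>
        exact fun _ => ⟨1, fun h1 => (hV₀.primeIdealOf ⟨t, htV₀⟩).isPrime.ne_top
          ((Ideal.eq_top_iff_one _).mpr h1), fun W hW => absurd hW (Finset.notMem_empty W)⟩
      | insert W T hWT ih =>
        intro hall
        obtain ⟨a₁, ha₁, h₁⟩ := ih (fun W' hW' => hall W' (Finset.mem_insert_of_mem hW'))
        have eW := hall W (Finset.mem_insert_self W T)
        obtain ⟨a₂, ha₂, h₂⟩ := chart_pos f F hF hV₀ W.2 eW hprime t htV₀ ht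
        refine ⟨a₂ * a₁, fun hmem => ?_, fun W' hW' x hxW hsp hxf hx => ?_⟩
        · rcases (hV₀.primeIdealOf ⟨t, htV₀⟩).isPrime.mem_or_mem hmem with h' | h'
          · exact ha₂ h'
          · exact ha₁ h'
        · rw [Scheme.basicOpen_mul] at hxf
          rcases Finset.mem_insert.mp hW' with rfl | hW'
          · exact h₂ x hxW hsp hxf.1 hx
          · exact h₁ W' hW' x hxW hsp hxf.2 hx
    obtain ⟨a, ha, hall⟩ := key hcfin.toFinset (fun W hW => hle W (hcfin.mem_toFinset.mp hW))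
    refine ⟨S.basicOpen a,
      (Groth.Agent.H8.mem_basicOpen_iff_notMem_primeIdealOf hV₀ t htV₀ a).mpr ha,
      fun s hs hsp => ?_⟩
    rw [hE]
    intro x hfx hx
    have hxV : x ∈ f ⁻¹ᵁ V₀ := by
      show f x ∈ V₀
      rw [hfx]
      exact S.basicOpen_le a hs
    rw [hc] at hxV
    simp only [TopologicalSpace.Opens.mem_iSup] at hxV
    obtain ⟨W, hW, hxW⟩ := hxV
    exact hall W (hcfin.mem_toFinset.mpr hW) x hxW (by rw [hfx]; exact hsp)
      (by rw [hfx]; exact hs) hx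
  · intro t ht
    rw [hE] at ht
    push Not at ht
    obtain ⟨x₀, hfx₀, hx₀, hn⟩ := ht
    obtain ⟨_, ⟨V₀, hV₀, rfl⟩, htV₀, -⟩ := S.isBasis_affineOpens.exists_subset_of_mem_open
      (Set.mem_univ (f x₀)) isOpen_univ
    replace hV₀ : IsAffineOpen V₀ := hV₀
    obtain ⟨_, ⟨W, hW, rfl⟩, hx₀W, e⟩ := X.isBasis_affineOpens.exists_subset_of_mem_open
      (show x₀ ∈ ((f ⁻¹ᵁ V₀ : X.Opens) : Set X) from htV₀) (f ⁻¹ᵁ V₀).isOpen
    replace hW : IsAffineOpen W := hW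
    replace e : W ≤ f ⁻¹ᵁ V₀ := e
    obtain ⟨a, ha, hconc⟩ := chart_neg f F hF hV₀ hW e hprime x₀ hx₀W hx₀ hn
    subst hfx₀
    refine ⟨S.basicOpen a, ha, fun s hs hsp => ?_⟩
    rw [hE]
    push Not
    obtain ⟨x, hfx, hx, hnx⟩ := hconc s hs hsp
    exact ⟨x, hfx, hx, hnx⟩

end Groth.Agent.H57.TorFree
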